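import Groth.Agent.DualCxLib.DepthApps
import Groth.Agent.DualCxLib.TopExt
import Groth.Prelude.Def_EGA4b

/-! # Serre's conditions in terms of the `Ext` modules into a dualizing complex -/

set_option autoImplicit false
set_option linter.style.haveILetI false
set_option linter.unusedSectionVars false

universe u

open CategoryTheory CategoryTheory.Limits
open Groth.Agent
open Groth.Agent.DualCxLib

attribute [local instance] HasDerivedCategory.standard

noncomputable section

namespace DualSkLib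

variable {A : Type u} [CommRing A] [IsNoetherianRing A] {ω : Dual.D A} (hω : Dual.IsDualizing A ω)
  (M : Type u) [AddCommGroup M] [Module A M] [Module.Finite A M]

include hω

/-- The window of nonvanishing degrees at a point of the support. -/
theorem profile (p : PrimeSpectrum A) (hp : p ∈ Module.support A M) : ∃ r d : ℕ, d ≤ r ∧
    Module.supportDim (Localization.AtPrime p.asIdeal) (LocalizedModule p.asIdeal.primeCompl M) = ((r : ℕ∞) : WithBot ℕ∞) ∧
    LocCoh.depth (Localization.AtPrime p.asIdeal) (LocalizedModule p.asIdeal.primeCompl M) = (d : ℕ∞) ∧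
    ¬ Van p.asIdeal (Ext ω (ModuleCat.of A M) (deg hω p - r)) ∧
    ¬ Van p.asIdeal (Ext ω (ModuleCat.of A M) (deg hω p - d)) ∧
    ∀ i, ¬ Van p.asIdeal (Ext ω (ModuleCat.of A M) i) → deg hω p - r ≤ i ∧ i ≤ deg hω p - d := by
  obtain ⟨q₀, hq₀, hle, hmin, hne⟩ := exists_min_deg hω p M hp
  have hd := supportDim_localized_eq hω p q₀ M hq₀ hle hmin
  obtain ⟨r, hr⟩ : ∃ r : ℕ, deg hω p - deg hω q₀ = r :=
    ⟨(deg hω p - deg hω q₀).toNat, by have := (deg_strictMono hω).monotone hle; omega⟩
  rw [hr, Int.toNat_natCast] at hd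
  have hne' : ¬ Van p.asIdeal (Ext ω (ModuleCat.of A M) (deg hω p - r)) := by
    rwa [show deg hω p - (r : ℤ) = deg hω q₀ by omega]
  have hlt : ¬ ((r + 1 : ℕ) : ℕ∞) ≤
      LocCoh.depth (Localization.AtPrime p.asIdeal) (LocalizedModule p.asIdeal.primeCompl M) :=
    fun h => hne' ((le_depth_iff_van hω p (r + 1) M).1 h r (Nat.lt_succ_self r))
  obtain ⟨d, hdd⟩ : ∃ d : ℕ, LocCoh.depth (Localization.AtPrime p.asIdeal)
      (LocalizedModule p.asIdeal.primeCompl M) = (d : ℕ∞) := by
    obtain ⟨d, hd'⟩ := ENat.ne_top_iff_exists.1 (ne_top_of_lt (not_le.1 hlt))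
    exact ⟨d, hd'.symm⟩
  have hdr : d ≤ r := by
    rw [hdd, ENat.natCast_le_natCast] at hlt
    omega
  obtain ⟨hvan, hnd⟩ := (depth_eq_iff_van hω p d M).1 hdd
  refine ⟨r, d, hdr, hd, hdd, hne', hnd, fun i hi => ⟨?_, ?_⟩⟩
  · by_contra h
    refine hi (van_of_lt hω p i fun q hq hqp => ?_)
    have := hmin q hq hqp
    omega
  · by_contra h
    refine hi ?_
    rcases lt_or_ge (deg hω p) i with h' | h'
    · exact van_of_gt hω p i h'
    · have := hvan (deg hω p - i).toNat (by omega)
      rwa [show deg hω p - ((deg hω p - i).toNat : ℤ) = i by omega] at this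

theorem hasSk_of_profile (k : ℕ)
    (h : ∀ p : PrimeSpectrum A, p ∈ Module.support A M → ∀ r d : ℕ, d < r →
      Module.supportDim (Localization.AtPrime p.asIdeal) (LocalizedModule p.asIdeal.primeCompl M) = ((r : ℕ∞) : WithBot ℕ∞) →
      ¬ Van p.asIdeal (Ext ω (ModuleCat.of A M) (deg hω p - r)) →
      ¬ Van p.asIdeal (Ext ω (ModuleCat.of A M) (deg hω p - d)) → k ≤ d) :
    LocCoh.HasSk k A M := by
  intro q _
  let p : PrimeSpectrum A := ⟨q, inferInstance⟩
  by_cases hp : p ∈ Module.support A M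
  · obtain ⟨r, d, hdr, hr, hd, hnr, hnd, -⟩ := profile hω M p hp
    change min _ (Module.supportDim (Localization.AtPrime p.asIdeal) (LocalizedModule p.asIdeal.primeCompl M)) ≤
      ((LocCoh.depth (Localization.AtPrime p.asIdeal) (LocalizedModule p.asIdeal.primeCompl M) : ℕ∞) : WithBot ℕ∞)
    rw [hr, hd]
    rcases hdr.eq_or_lt with rfl | hlt
    · exact min_le_right _ _
    · exact (min_le_left _ _).trans (WithBot.coe_le_coe.2 (ENat.natCast_le_natCast.2 (h p hp r d hlt hr hnr hnd)))
  · haveI : Subsingleton (LocalizedModule q.primeCompl M) := Module.notMem_support_iff.1 hp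
    rw [(Module.supportDim_eq_bot_iff_subsingleton _ _).2 inferInstance]
    exact (min_le_right _ _).trans bot_le

theorem le_of_hasSk {k r d : ℕ} (h : LocCoh.HasSk k A M) (p : PrimeSpectrum A) (hdr : d < r)
    (hr : Module.supportDim (Localization.AtPrime p.asIdeal) (LocalizedModule p.asIdeal.primeCompl M) = ((r : ℕ∞) : WithBot ℕ∞))
    (hd : LocCoh.depth (Localization.AtPrime p.asIdeal) (LocalizedModule p.asIdeal.primeCompl M) = (d : ℕ∞)) :
    k ≤ d := by
  have h' := h p.asIdeal
  rw [hr, hd] at h'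
  have h2 : min k r ≤ d := by
    rcases le_total k r with hkr | hkr
    · rw [min_eq_left hkr]
      rw [min_eq_left (show ((k : ℕ) : WithBot ℕ∞) ≤ ((r : ℕ∞) : WithBot ℕ∞) from
        WithBot.coe_le_coe.2 (ENat.natCast_le_natCast.2 hkr))] at h'
      exact ENat.natCast_le_natCast.1 (WithBot.coe_le_coe.1 h')
    · rw [min_eq_right hkr]
      rw [min_eq_right (show ((r : ℕ∞) : WithBot ℕ∞) ≤ ((k : ℕ) : WithBot ℕ∞) from
        WithBot.coe_le_coe.2 (ENat.natCast_le_natCast.2 hkr))] at h'
      exact ENat.natCast_le_natCast.1 (WithBot.coe_le_coe.1 h')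
  omega

theorem mem_support_of_not_van {p : PrimeSpectrum A} {i : ℤ}
    (hi : ¬ Van p.asIdeal (Ext ω (ModuleCat.of A M) i)) : p ∈ Module.support A M :=
  by_contra fun hp => hi (van_of_lt hω p i fun _ hq hqp => absurd (Module.mem_support_mono hqp hq) hp)

/-- `(S_k)` means the loci of two different `Ext` modules meet in large codimension. -/
theorem hasSk_iff_codim (k : ℕ) :
    LocCoh.HasSk k A M ↔
      ∀ (i j : ℤ), j < i → ∀ p : PrimeSpectrum A,
        p ∈ Module.support A (Dual.inD A M ⟶ ω⟦i⟧) → p ∈ Module.support A (Dual.inD A M ⟶ ω⟦j⟧) →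
          (((k : ℤ) + i - j).toNat : WithBot ℕ∞) ≤
            Module.supportDim (Localization.AtPrime p.asIdeal) (LocalizedModule p.asIdeal.primeCompl M) := by
  constructor
  · intro h i j hij p hi hj
    have hi' : ¬ Van p.asIdeal (Ext ω (ModuleCat.of A M) i) := mem_support_iff_not_van.1 hi
    have hj' : ¬ Van p.asIdeal (Ext ω (ModuleCat.of A M) j) := mem_support_iff_not_van.1 hj
    obtain ⟨r, d, hdr, hr, hd, -, -, hwin⟩ := profile hω M p (mem_support_of_not_van hω M hi')
    have h1 := hwin i hi'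
    have h2 := hwin j hj'
    have h3 := le_of_hasSk hω M h p (show d < r by omega) hr hd
    rw [hr]
    exact WithBot.coe_le_coe.2 (ENat.natCast_le_natCast.2 (by omega))
  · intro h
    refine hasSk_of_profile hω M k fun p hp r d hdr hr hnr hnd => ?_
    have h1 := h (deg hω p - d) (deg hω p - r) (by omega) p (mem_support_iff_not_van.2 hnd) (mem_support_iff_not_van.2 hnr)
    rw [hr] at h1
    have := ENat.natCast_le_natCast.1 (WithBot.coe_le_coe.1 h1)
    omega

section Local

variable [IsLocalRing A] (hn : Dual.IsNormalized A ω)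

include hn in
/-- In the equidimensional case the dimension at a point is read off the degree. -/
theorem supportDim_localized_of_equidim (hM : EGA4.IsEquidimModule A M) (δ : ℕ) (hδ : Module.supportDim A M = δ)
    (p : PrimeSpectrum A) (hp : p ∈ Module.support A M) :
    Module.supportDim (Localization.AtPrime p.asIdeal) (LocalizedModule p.asIdeal.primeCompl M) =
      (((deg hω p + δ).toNat : ℕ∞) : WithBot ℕ∞) ∧ -(δ : ℤ) ≤ deg hω p := by
  have hdeg : ∀ q ∈ (Module.annihilator A M).minimalPrimes, ∀ hq : q.IsPrime,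
      deg hω ⟨q, hq⟩ = -(δ : ℤ) := fun q hq hqp =>
    deg_eq_neg_dim hω hn ⟨q, hqp⟩ δ ((hM q hq).trans hδ)
  obtain ⟨q₀, hq₀, hle⟩ := Ideal.exists_minimalPrimes_le (Module.mem_support_iff_of_finite.1 hp)
  haveI := hq₀.isPrime
  have h0 := hdeg q₀ hq₀ hq₀.isPrime
  have hle' : (⟨q₀, hq₀.isPrime⟩ : PrimeSpectrum A) ≤ p := hle
  have h := supportDim_localized_eq hω p ⟨q₀, hq₀.isPrime⟩ M (Module.mem_support_iff_of_finite.2 hq₀.le) hle'
    fun q hq _ => by
      obtain ⟨q₁, hq₁, hle₁⟩ := Ideal.exists_minimalPrimes_le (Module.mem_support_iff_of_finite.1 hq)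
      haveI := hq₁.isPrime
      have h1 := hdeg q₁ hq₁ hq₁.isPrime
      have h2 := (deg_strictMono hω).monotone (show (⟨q₁, hq₁.isPrime⟩ : PrimeSpectrum A) ≤ q from hle₁)
      omega
  rw [h0, sub_neg_eq_add] at h
  exact ⟨h, h0 ▸ (deg_strictMono hω).monotone hle'⟩

include hn in
/-- `(S_k)` for an equidimensional module over a local ring. -/
theorem hasSk_iff_supportDim_le (hM : EGA4.IsEquidimModule A M) (δ : ℕ) (hδ : Module.supportDim A M = δ) (k : ℕ) :
    LocCoh.HasSk k A M ↔
      ∀ j : ℤ, j ≠ -(δ : ℤ) →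
        (-j - (k : ℤ) < 0 → Subsingleton (Dual.inD A M ⟶ ω⟦j⟧)) ∧
        (0 ≤ -j - (k : ℤ) → Module.supportDim A (Dual.inD A M ⟶ ω⟦j⟧) ≤ ((-j - (k : ℤ)).toNat : WithBot ℕ∞)) := by
  have hdim : ∀ p : PrimeSpectrum A, ∃ e : ℕ, ringKrullDim (A ⧸ p.asIdeal) = e ∧ deg hω p = -(e : ℤ) := fun p => by
    obtain ⟨e, he⟩ : ∃ e : ℕ, ringKrullDim (A ⧸ p.asIdeal) = e := ⟨_, ringKrullDim_quotient_eq hω p⟩
    exact ⟨e, he, deg_eq_neg_dim hω hn p e he⟩
  constructor
  · intro h j hj
    have key : ∀ p : PrimeSpectrum A, p ∈ Module.support A (Dual.inD A M ⟶ ω⟦j⟧) → deg hω p ≥ j + k := by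
      intro p hp
      have hp' : ¬ Van p.asIdeal (Ext ω (ModuleCat.of A M) j) := mem_support_iff_not_van.1 hp
      have hpM := mem_support_of_not_van hω M hp'
      obtain ⟨r, d, hdr, hr, hd, -, -, hwin⟩ := profile hω M p hpM
      obtain ⟨hr', hge⟩ := supportDim_localized_of_equidim hω M hn hM δ hδ p hpM
      rw [hr, WithBot.coe_inj, ENat.natCast_inj] at hr'
      have h1 := hwin j hp'
      have h3 := le_of_hasSk hω M h p (show d < r by omega) hr hd
      omega
    refine ⟨fun hneg => ?_, fun hpos => ?_⟩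
    · refine (Module.support_eq_empty_iff (R := A)).1 (Set.eq_empty_iff_forall_notMem.2 fun p hp => ?_)
      obtain ⟨e, -, he⟩ := hdim p
      have := key p hp
      omega
    · show Order.krullDim _ ≤ _
      refine iSup_le fun l => ?_
      let S := PrimeSpectrum.zeroLocus ((l.head).1.asIdeal : Set A)
      let l' : LTSeries S := ⟨l.length, fun i => ⟨(l.toFun i).1, LTSeries.head_le l i⟩, fun i => l.step i⟩
      obtain ⟨e, he, hde⟩ := hdim l.head.1
      have h1 : (l.length : WithBot ℕ∞) ≤ (e : WithBot ℕ∞) := by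
        rw [← he, ringKrullDim_quotient]
        exact Order.LTSeries.length_le_krullDim l'
      have h2 := key _ l.head.2
      exact h1.trans (Nat.cast_le.2 (by omega))
  · intro h
    refine hasSk_of_profile hω M k fun p hp r d hdr hr _ hnd => ?_
    obtain ⟨hr', hge⟩ := supportDim_localized_of_equidim hω M hn hM δ hδ p hp
    rw [hr, WithBot.coe_inj, ENat.natCast_inj] at hr'
    obtain ⟨e, he, hde⟩ := hdim p
    have hj := h (deg hω p - d) (by omega)
    by_cases hneg : -(deg hω p - d) - (k : ℤ) < 0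
    · haveI := hj.1 hneg
      exact absurd (fun x => ⟨1, fun hh => p.isPrime.ne_top ((Ideal.eq_top_iff_one _).2 hh), Subsingleton.elim _ _⟩) hnd
    · have hmem : p ∈ Module.support A (Dual.inD A M ⟶ ω⟦(deg hω p - d)⟧) := mem_support_iff_not_van.2 hnd
      have h1 : ((e : ℕ) : WithBot ℕ∞) ≤ Module.supportDim A (Dual.inD A M ⟶ ω⟦(deg hω p - d)⟧) := by
        rw [← he, ringKrullDim_quotient]
        exact Order.krullDim_le_of_strictMono (fun q => ⟨q.1, Module.mem_support_mono q.2 hmem⟩) fun _ _ hlt => hlt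
      have h2 := h1.trans (hj.2 (not_lt.1 hneg))
      have := Nat.cast_le.1 h2
      omega

end Local

end DualSkLib
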