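import Groth.Agent.DepthTwoLib.Reflexive

/-! # Serre conditions of duals -/

set_option autoImplicit false

universe u

namespace DepthTwoLib

variable {A : Type u} [CommRing A] [IsNoetherianRing A]

/-- A dual is a kernel of finite free modules. -/
theorem exists_dual_presentation (X : Type u) [AddCommGroup X] [Module A X] [Module.Finite A X] :
    ∃ (n m : ℕ) (f : Module.Dual A X →ₗ[A] Module.Dual A (Fin n → A))
      (h : Module.Dual A (Fin n → A) →ₗ[A] Module.Dual A (Fin m → A)), Function.Injective f ∧ Function.Exact f h := by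
  obtain ⟨n, π, hπ⟩ := Module.Finite.exists_fin' A X
  obtain ⟨m, ρ, hρ⟩ := Module.Finite.exists_fin' A (LinearMap.ker π)
  refine ⟨n, m, π.dualMap, ((LinearMap.ker π).subtype ∘ₗ ρ).dualMap,
    LinearMap.dualMap_injective_of_surjective hπ, fun φ => ⟨fun hφ => ?_, ?_⟩⟩
  · have hker : LinearMap.ker π ≤ LinearMap.ker φ := fun x hx => by
      obtain ⟨y, hy⟩ := hρ ⟨x, hx⟩
      have := LinearMap.congr_fun hφ y
      simpa [hy] using this
    refine ⟨(LinearMap.ker π).liftQ φ hker ∘ₗ (π.quotKerEquivOfSurjective hπ).symm.toLinearMap, LinearMap.ext fun x => ?_⟩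
    show (LinearMap.ker π).liftQ φ hker ((π.quotKerEquivOfSurjective hπ).symm (π x)) = φ x
    rw [show π x = π.quotKerEquivOfSurjective hπ (Submodule.Quotient.mk x) from rfl, LinearEquiv.symm_apply_apply]
    rfl
  · rintro ⟨g, rfl⟩
    refine LinearMap.ext fun y => ?_
    show g (π (ρ y : Fin n → A)) = 0
    rw [(ρ y).2, map_zero]

/-- Duals inherit depth two. -/
theorem d2_dual {I : Ideal A} (h : D2 I A) (X : Type u) [AddCommGroup X] [Module A X] [Module.Finite A X] :
    D2 I (Module.Dual A X) := by
  obtain ⟨n, m, f, g, hf, hex⟩ := exists_dual_presentation (A := A) X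
  exact D2.left f g hf hex (D2.of_free h _) (T1.of_free h.1 _)

/-- Duals inherit `(S₂)`. -/
theorem hasSk_two_dual (hA : LocCoh.HasSk 2 A A) (X : Type u) [AddCommGroup X] [Module A X] [Module.Finite A X] :
    LocCoh.HasSk 2 A (Module.Dual A X) := by
  obtain ⟨n, m, f, h, hf, hex⟩ := exists_dual_presentation (A := A) X
  have key : ∀ (p : Ideal A) [p.IsPrime] (k : ℕ),
      (1 ≤ LocCoh.depth (Localization.AtPrime p) (LocalizedModule p.primeCompl A) →
        1 ≤ LocCoh.depth (Localization.AtPrime p) (LocalizedModule p.primeCompl (Module.Dual A (Fin k → A)))) ∧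
      (2 ≤ LocCoh.depth (Localization.AtPrime p) (LocalizedModule p.primeCompl A) →
        2 ≤ LocCoh.depth (Localization.AtPrime p) (LocalizedModule p.primeCompl (Module.Dual A (Fin k → A)))) := by
    intro p _ k
    have : IsNoetherianRing (Localization.AtPrime p) := IsLocalization.isNoetherianRing p.primeCompl _ inferInstance
    have e : LocalizedModule p.primeCompl A ≃ₗ[Localization.AtPrime p] Localization.AtPrime p :=
      LinearEquiv.extendScalarsOfIsLocalization p.primeCompl (Localization.AtPrime p)
        (IsLocalizedModule.linearEquiv p.primeCompl (LocalizedModule.mkLinearMap p.primeCompl A)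
          (Algebra.linearMap A (Localization.AtPrime p)))
    have : Module.Free (Localization.AtPrime p) (LocalizedModule p.primeCompl (Module.Dual A (Fin k → A))) :=
      Module.free_of_isLocalizedModule p.primeCompl (LocalizedModule.mkLinearMap p.primeCompl _)
    unfold LocCoh.depth
    rw [one_le_iff, one_le_iff, two_le_iff, two_le_iff]
    exact ⟨fun h => T1.of_free (h.congr e.symm) _, fun h => D2.of_free (h.congr e.symm) _⟩
  have hsA : ∀ {M : Type u} [AddCommGroup M] [Module A M], Module.support A M ⊆ Module.support A A := by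
    intro M _ _ q _
    exact Module.mem_support_iff'.2 ⟨1, fun r hr h => hr (by rw [show r = r • (1 : A) by simp, h]; exact zero_mem _)⟩
  refine hasSk_two.2 fun p _ => ?_
  have hA' := hasSk_two.1 hA p
  exact ⟨fun hd => (depth_kernel p f h hf hex).1 ((key p n).1 (hA'.1 (hd.trans (supportDim_localized_mono p hsA)))),
    fun hd => (depth_kernel p f h hf hex).2 ((key p n).2 (hA'.2 (hd.trans (supportDim_localized_mono p hsA))))
      ((key p m).1 (hA'.1 ((le_trans one_le_two hd).trans (supportDim_localized_mono p hsA))))⟩

end DepthTwoLib
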