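import Groth.Agent.DualSkLib.Equidim
import Groth.Agent.DRingLib.Devissage

/-! # Endomorphisms of the dualizing module -/

set_option autoImplicit false
set_option linter.style.haveILetI false
set_option linter.unusedSectionVars false
set_option backward.isDefEq.respectTransparency false
set_option backward.isDefEq.respectTransparency.types false

universe u

open CategoryTheory CategoryTheory.Limits
open CategoryTheory.Pretriangulated (Triangle)
open Groth.Agent
open Groth.Agent.DualCxLib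

attribute [local instance] HasDerivedCategory.standard

noncomputable section

namespace DualSkLib

variable {A : Type u} [CommRing A]

section Vanish

variable [IsNoetherianRing A] {ω : Dual.D A} (hω : Dual.IsDualizing A ω)
include hω

theorem cohomology_subsingleton (i : ℤ) (h : ∀ p : PrimeSpectrum A, p ∉ Module.support A (Dual.HD A ω i)) :
    Subsingleton (Dual.HD A ω i) :=
  (Module.support_eq_empty_iff (R := A)).1 (Set.eq_empty_iff_forall_notMem.2 h)

/-- Maps into `ω` vanish from an object whose cohomology is small. -/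
theorem hom_subsingleton (k : ℤ) (Y : Dual.D A) (c : ℤ) (N : ℕ)
    (hb : ∀ i, (i < c ∨ c + N ≤ i) → IsZero ((DRingLib.Hn A i).obj Y))
    (hfin : ∀ i, Module.Finite A ((DRingLib.Hn A i).obj Y))
    (hsupp : ∀ i, ∀ p ∈ Module.support A ((DRingLib.Hn A i).obj Y), k + i < deg hω p) :
    Subsingleton (Y ⟶ ω⟦k⟧) := by
  let P : DerivedCategory (ModuleCat.{u} A) → Prop := fun Z => Subsingleton (Z ⟶ ω⟦k⟧)
  have hP : DRingLib.Devissable P :=
    { iso := fun e h => (e.homFromEquiv).subsingleton_congr.1 h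
      zero := fun h => ⟨fun f g => h.eq_of_src f g⟩
      ext := fun T hT h1 h3 => by
        haveI : Subsingleton (T.obj₁ ⟶ ω⟦k⟧) := h1
        haveI : Subsingleton (T.obj₃ ⟶ ω⟦k⟧) := h3
        refine subsingleton_of_forall_eq 0 fun f => ?_
        obtain ⟨g, hg⟩ := Triangle.yoneda_exact₂ T hT f (Subsingleton.elim _ _)
        rw [hg, Subsingleton.elim g 0, comp_zero] }
  refine hP.of_homology c N Y hb fun i => ?_
  haveI := hfin i
  haveI := subsingleton_ext_of_lt_deg hω ((DRingLib.Hn A i).obj Y) (k + i) (hsupp i)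
  have h0 : Subsingleton ((Dual.inD A ((DRingLib.Hn A i).obj Y))⟦-i⟧ ⟶ ω⟦k⟧) :=
    ((shiftL (Dual.inD A ((DRingLib.Hn A i).obj Y)) (ω⟦k⟧) i).trans
      (postcompL _ (shift₂ ω k i (k + i) rfl))).toEquiv.subsingleton_congr.2 inferInstance
  exact ((DRingLib.singleShiftIso ((DRingLib.Hn A i).obj Y) i).homFromEquiv).subsingleton_congr.1 h0

end Vanish

/-- Scalars as endomorphisms of a shifted module. -/
theorem bijective_smul_id_single (m : ℤ) (N : ModuleCat.{u} A)
    (h : Function.Bijective (fun r : A => r • 𝟙 ((DerivedCategory.singleFunctor (ModuleCat.{u} A) m).obj N))) :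
    Function.Bijective (fun r : A => r • (LinearMap.id : N →ₗ[A] N)) := by
  let F := DerivedCategory.singleFunctor (ModuleCat.{u} A) m
  have hF : ∀ r : A, F.map (r • 𝟙 N) = r • 𝟙 (F.obj N) := fun r => by
    rw [Functor.map_smul, CategoryTheory.Functor.map_id]
  refine ⟨fun r s hrs => h.1 ?_, fun φ => ?_⟩
  · show r • 𝟙 (F.obj N) = s • 𝟙 (F.obj N)
    rw [← hF, ← hF, show r • 𝟙 N = s • 𝟙 N from ModuleCat.hom_ext hrs]
  · obtain ⟨r, hr⟩ := h.2 (F.map (ModuleCat.ofHom φ))
    refine ⟨r, ?_⟩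
    have : r • 𝟙 N = ModuleCat.ofHom φ := F.map_injective ((hF r).trans hr)
    exact congrArg ModuleCat.Hom.hom this

variable [IsNoetherianRing A] {ω : Dual.D A} (hω : Dual.IsDualizing A ω)
include hω

/-- The lowest cohomology of a dualizing complex has only scalar endomorphisms under `(S₂)`,
and no self-extensions under `(S₃)`. -/
theorem endK (m : ℤ) (hlow : ∀ i, i < m → ∀ p : PrimeSpectrum A, p ∉ Module.support A (Dual.HD A ω i))
    (b : ℤ) (hhigh : ∀ i, b < i → ∀ p : PrimeSpectrum A, p ∉ Module.support A (Dual.HD A ω i))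
    (h2 : ∀ i, m < i → ∀ p ∈ Module.support A (Dual.HD A ω i), i + 2 ≤ deg hω p) :
    Function.Bijective (fun r : A => r • (LinearMap.id : Dual.HD A ω m →ₗ[A] Dual.HD A ω m)) ∧
    ((∀ i, m < i → ∀ p ∈ Module.support A (Dual.HD A ω i), i + 3 ≤ deg hω p) →
      Subsingleton (Dual.inD A (Dual.HD A ω m) ⟶ (Dual.inD A (Dual.HD A ω m))⟦(1 : ℤ)⟧)) := by
  have hz : ∀ i, (∀ p : PrimeSpectrum A, p ∉ Module.support A (Dual.HD A ω i)) →
      IsZero ((DRingLib.Hn A i).obj ω) := fun i h => by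
    haveI := cohomology_subsingleton hω i h
    exact ModuleCat.isZero_of_subsingleton _
  obtain ⟨X, Y, hX, hY, f, g, d, hT⟩ :=
    DerivedCategory.TStructure.t.exists_triangle ω m (m + 1) rfl
  haveI : X.IsLE m := ⟨hX⟩
  haveI : Y.IsGE (m + 1) := ⟨hY⟩
  let T : Triangle (Dual.D A) := Triangle.mk f g d
  have hX0 : ∀ i, m < i → IsZero ((DRingLib.Hn A i).obj X) := fun i hi => DerivedCategory.isZero_of_isLE X m i hi
  have hY0 : ∀ i, i < m + 1 → IsZero ((DRingLib.Hn A i).obj Y) := fun i hi =>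
    DerivedCategory.isZero_of_isGE Y (m + 1) i hi
  have hf : ∀ i, i ≤ m → IsIso ((DRingLib.Hn A i).map f) := fun i hi => by
    have := (DerivedCategory.HomologySequence.mono_homologyMap_mor₁_iff T hT (i - 1) i
      (by omega)).mpr ((hY0 (i - 1) (by omega)).eq_of_src _ _)
    have := (DerivedCategory.HomologySequence.epi_homologyMap_mor₁_iff T hT i).mpr
      ((hY0 i (by omega)).eq_of_tgt _ _)
    exact isIso_of_mono_of_epi ((DRingLib.Hn A i).map T.mor₁)
  have hg : ∀ i, m < i → IsIso ((DRingLib.Hn A i).map g) := fun i hi => by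
    have := (DerivedCategory.HomologySequence.exact₂ T hT i).mono_g ((hX0 i hi).eq_of_src _ _)
    have := (DerivedCategory.HomologySequence.exact₃ T hT i (i + 1) rfl).epi_f
      ((hX0 (i + 1) (by omega)).eq_of_tgt _ _)
    exact isIso_of_mono_of_epi ((DRingLib.Hn A i).map T.mor₂)
  haveI : X.IsGE m := (DerivedCategory.isGE_iff X m).mpr fun i hi => by
    have := hf i hi.le
    exact (hz i (hlow i hi)).of_iso (asIso ((DRingLib.Hn A i).map f))
  obtain ⟨N, ⟨eN⟩⟩ := DerivedCategory.exists_iso_singleFunctor_obj_of_isGE_of_isLE X m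
  let eK : N ≅ (DRingLib.Hn A m).obj ω :=
    ((DerivedCategory.singleFunctorCompHomologyFunctorIso (ModuleCat.{u} A) m).app N).symm ≪≫
      (DRingLib.Hn A m).mapIso eN.symm ≪≫ (haveI := hf m le_rfl; asIso ((DRingLib.Hn A m).map f))
  -- the maps from the truncated part
  have hfin : ∀ i, Module.Finite A ((DRingLib.Hn A i).obj Y) := fun i => by
    by_cases hi : m < i
    · haveI := hg i hi
      haveI := hω.finite_cohomology i
      exact Module.Finite.equiv (asIso ((DRingLib.Hn A i).map g)).toLinearEquiv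
    · haveI := ModuleCat.subsingleton_of_isZero (hY0 i (by omega))
      exact inferInstance
  have hsupp : ∀ (k s : ℤ), k < s → (∀ i, m < i → ∀ p ∈ Module.support A (Dual.HD A ω i), i + s ≤ deg hω p) →
      Subsingleton (Y ⟶ ω⟦k⟧) := fun k s hks hs => by
    obtain ⟨N', hN'⟩ : ∃ N' : ℕ, b < m + 1 + N' := ⟨(b - m).toNat, by omega⟩
    refine hom_subsingleton hω k Y (m + 1) N' (fun i hi => ?_) hfin fun i p hp => ?_
    · by_cases him : m < i
      · haveI := hg i him
        exact (hz i (hhigh i (by omega))).of_iso (asIso ((DRingLib.Hn A i).map g)).symm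
      · exact hY0 i (by omega)
    · by_cases him : m < i
      · haveI := hg i him
        have hp' : p ∈ Module.support A (Dual.HD A ω i) :=
          (Set.ext_iff.1 (LinearEquiv.support_eq (asIso ((DRingLib.Hn A i).map g)).toLinearEquiv) p).2 hp
        have := hs i him p hp'
        omega
      · haveI := ModuleCat.subsingleton_of_isZero (hY0 i (by omega))
        rw [Module.support_eq_empty] at hp
        exact absurd hp (Set.notMem_empty p)
  haveI hY0' : Subsingleton (Y ⟶ ω) :=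
    ((shiftFunctorZero (Dual.D A) ℤ).app ω).homToEquiv.subsingleton_congr.1 (hsupp 0 2 (by norm_num) h2)
  haveI hY1 : Subsingleton (Y ⟶ ω⟦(1 : ℤ)⟧) := hsupp 1 2 (by norm_num) h2
  -- `End ω → Hom(X, ω)`
  have hpre : Function.Bijective (fun φ : ω ⟶ ω => f ≫ φ) := by
    refine ⟨fun φ ψ h => ?_, fun χ => ?_⟩
    · obtain ⟨w, hw⟩ := Triangle.yoneda_exact₂ T hT (φ - ψ) (by
        show f ≫ (φ - ψ) = 0
        rw [Preadditive.comp_sub, sub_eq_zero]; exact h)
      have h0 : φ - ψ = 0 := by rw [hw, Subsingleton.elim (α := Y ⟶ ω) w 0, comp_zero]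
      exact sub_eq_zero.1 h0
    · obtain ⟨φ, hφ⟩ := Triangle.yoneda_exact₂ T.invRotate (Pretriangulated.inv_rot_of_distTriang T hT) χ (by
        haveI : Subsingleton (Y⟦(-1 : ℤ)⟧ ⟶ ω) := (shiftL Y ω 1).toEquiv.subsingleton_congr.2 hY1
        exact Subsingleton.elim (α := Y⟦(-1 : ℤ)⟧ ⟶ ω) _ _)
      exact ⟨φ, hφ.symm⟩
  -- `End X → Hom(X, ω)`
  have hpost : Function.Injective (fun φ : X ⟶ X => φ ≫ f) := fun φ ψ h => by
    obtain ⟨w, hw⟩ := Triangle.coyoneda_exact₂ T.invRotate (Pretriangulated.inv_rot_of_distTriang T hT) (φ - ψ) (by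
      show (φ - ψ) ≫ f = 0
      rw [Preadditive.sub_comp, sub_eq_zero]; exact h)
    haveI : (Y⟦(-1 : ℤ)⟧).IsGE (m + 2) := DerivedCategory.TStructure.t.isGE_shift Y (m + 1) (-1) (m + 2) (by omega)
    rw [DerivedCategory.TStructure.t.zero_of_isLE_of_isGE (show X ⟶ Y⟦(-1 : ℤ)⟧ from w) m (m + 2) (by omega)
      inferInstance inferInstance] at hw
    exact sub_eq_zero.1 (hw.trans zero_comp)
  have hcomm : ∀ r : A, (r • 𝟙 X) ≫ f = f ≫ (r • 𝟙 ω) := fun r => by
    rw [Linear.smul_comp, Linear.comp_smul, Category.id_comp, Category.comp_id]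
  have hEndX : Function.Bijective (fun r : A => r • 𝟙 X) := by
    refine ⟨fun r s h => hω.toEnd_bijective.1 (hpre.1 ?_), fun φ => ?_⟩
    · show f ≫ (r • 𝟙 ω) = f ≫ (s • 𝟙 ω)
      rw [← hcomm, ← hcomm]; exact congrArg (· ≫ f) h
    · obtain ⟨χ, hχ⟩ := hpre.2 (φ ≫ f)
      obtain ⟨r, hr⟩ := hω.toEnd_bijective.2 χ
      refine ⟨r, hpost ?_⟩
      show (r • 𝟙 X) ≫ f = φ ≫ f
      rw [hcomm, show r • 𝟙 ω = χ from hr]; exact hχ
  have hEndN : Function.Bijective (fun r : A => r • 𝟙 ((DerivedCategory.singleFunctor (ModuleCat.{u} A) m).obj N)) := by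
    let c := eN.homCongr eN
    have e : ∀ r : A, c (r • 𝟙 X) = r • 𝟙 _ := fun r => by
      simp only [c, Iso.homCongr_apply]
      rw [Linear.smul_comp, Category.id_comp, Linear.comp_smul, Iso.inv_hom_id]
    refine ⟨fun r s h => hEndX.1 (c.injective ((e r).trans (h.trans (e s).symm))), fun φ => ?_⟩
    obtain ⟨r, hr⟩ := hEndX.2 (c.symm φ)
    exact ⟨r, (e r).symm.trans ((congrArg c hr).trans (c.apply_symm_apply φ))⟩
  refine ⟨?_, fun h3 => ?_⟩
  · have hb := bijective_smul_id_single m N hEndN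
    let e := eK.toLinearEquiv
    refine ⟨fun r s h => hb.1 (LinearMap.ext fun x => e.injective ?_), fun φ => ?_⟩
    · simpa using LinearMap.congr_fun h (e x)
    · obtain ⟨r, hr⟩ := hb.2 (e.symm.toLinearMap ∘ₗ φ ∘ₗ e.toLinearMap)
      refine ⟨r, LinearMap.ext fun x => ?_⟩
      have := congrArg e (LinearMap.congr_fun hr (e.symm x))
      simpa using this
  · haveI hY2 : Subsingleton (Y ⟶ ω⟦(2 : ℤ)⟧) := hsupp 2 3 (by norm_num) h3
    haveI : Subsingleton (ω ⟶ ω⟦(1 : ℤ)⟧) := hω.ext_self_subsingleton 1 one_ne_zero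
    haveI hXω : Subsingleton (X ⟶ ω⟦(1 : ℤ)⟧) := by
      refine subsingleton_of_forall_eq 0 fun χ => ?_
      obtain ⟨φ, hφ⟩ := Triangle.yoneda_exact₂ T.invRotate (Pretriangulated.inv_rot_of_distTriang T hT) χ (by
        haveI : Subsingleton (Y⟦(-1 : ℤ)⟧ ⟶ ω⟦(1 : ℤ)⟧) := ((shiftL Y (ω⟦(1 : ℤ)⟧) 1).trans
          (postcompL _ (shift₂ ω 1 1 2 (by norm_num)))).toEquiv.subsingleton_congr.2 hY2
        exact Subsingleton.elim (α := Y⟦(-1 : ℤ)⟧ ⟶ ω⟦(1 : ℤ)⟧) _ _)
      rw [hφ, Subsingleton.elim (α := ω ⟶ ω⟦(1 : ℤ)⟧) φ 0, comp_zero]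
    haveI hXX : Subsingleton (X ⟶ X⟦(1 : ℤ)⟧) := by
      refine subsingleton_of_forall_eq 0 fun φ => ?_
      obtain ⟨w, hw⟩ := Triangle.coyoneda_exact₁ T hT φ (Subsingleton.elim (α := X ⟶ ω⟦(1 : ℤ)⟧) _ _)
      rw [DerivedCategory.TStructure.t.zero_of_isLE_of_isGE (show X ⟶ Y from w) m (m + 1) (by omega)
        inferInstance inferInstance] at hw
      exact hw.trans zero_comp
    -- transport to the module in degree `0`
    let F := DerivedCategory.singleFunctor (ModuleCat.{u} A) 0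
    let N₀ : Dual.D A := Dual.inD A (Dual.HD A ω m)
    let eX : X ≅ N₀⟦-m⟧ := eN ≪≫ (DerivedCategory.singleFunctor (ModuleCat.{u} A) m).mapIso eK ≪≫
      (DRingLib.singleShiftIso ((DRingLib.Hn A m).obj ω) m).symm
    haveI : Subsingleton (N₀⟦-m⟧ ⟶ (N₀⟦-m⟧)⟦(1 : ℤ)⟧) :=
      (eX.homCongr ((shiftFunctor (Dual.D A) (1 : ℤ)).mapIso eX)).subsingleton_congr.1 hXX
    refine ⟨fun a c => (shiftFunctor (Dual.D A) (-m)).map_injective ?_⟩
    rw [← cancel_mono ((shiftFunctorComm (Dual.D A) (1 : ℤ) (-m)).hom.app N₀)]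
    exact Subsingleton.elim (α := N₀⟦-m⟧ ⟶ (N₀⟦-m⟧)⟦(1 : ℤ)⟧) _ _

end DualSkLib
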