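import Groth.Agent.DualSkLib.Basic
import Groth.Agent.DualCxLib.S2
import Groth.Agent.HenselDesc.Local
import Groth.Agent.S2933

/-! # Dualizing complexes of rings with `(S_k)`: degrees and supports of the cohomology -/

set_option autoImplicit false
set_option linter.style.haveILetI false
set_option linter.unusedSectionVars false

universe u

open CategoryTheory CategoryTheory.Limits
open Groth.Agent
open Groth.Agent.DualCxLib

attribute [local instance] HasDerivedCategory.standard

noncomputable section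

namespace DualSkLib

variable {A : Type u} [CommRing A] [IsNoetherianRing A] {ω : Dual.D A} (hω : Dual.IsDualizing A ω)

theorem annihilator_self : Module.annihilator A A = ⊥ :=
  le_bot_iff.1 fun a ha => by
    have := Module.mem_annihilator.1 ha 1
    simpa using this

theorem mem_support_self (p : PrimeSpectrum A) : p ∈ Module.support A A :=
  Module.mem_support_iff_of_finite.2 (annihilator_self.le.trans bot_le)

include hω

/-- The cohomology modules are the `Ext`s of the ring. -/
theorem mem_support_HD_iff (i : ℤ) (p : PrimeSpectrum A) :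
    p ∈ Module.support A (Dual.HD A ω i) ↔ ¬ Van p.asIdeal (Ext ω (ModuleCat.of A A) i) :=
  (Set.ext_iff.1 (LinearEquiv.support_eq (extHL ω i)) p).symm.trans mem_support_iff_not_van

/-- Every point lies in the window above the minimal primes. -/
theorem le_deg (m : ℤ) (hmin : ∀ (q : Ideal A) (hq : q ∈ minimalPrimes A), m ≤ deg hω ⟨q, hq.1.1⟩)
    (q : PrimeSpectrum A) : m ≤ deg hω q := by
  obtain ⟨r, hr, hrq⟩ := Ideal.exists_minimalPrimes_le (show (⊥ : Ideal A) ≤ q.asIdeal from bot_le)
  exact (hmin r hr).trans ((deg_strictMono hω).monotone (show (⟨r, hr.1.1⟩ : PrimeSpectrum A) ≤ q from hrq))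

/-- The height is read off the degree when all minimal primes have the same degree. -/
theorem supportDim_self_localized (m : ℤ) (hmin : ∀ (q : Ideal A) (hq : q ∈ minimalPrimes A), deg hω ⟨q, hq.1.1⟩ = m)
    (p : PrimeSpectrum A) :
    Module.supportDim (Localization.AtPrime p.asIdeal) (LocalizedModule p.asIdeal.primeCompl A) =
      (((deg hω p - m).toNat : ℕ∞) : WithBot ℕ∞) ∧ m ≤ deg hω p := by
  have hlow := le_deg hω m fun q hq => (hmin q hq).ge
  obtain ⟨r, hr, hrp⟩ := Ideal.exists_minimalPrimes_le (show (⊥ : Ideal A) ≤ p.asIdeal from bot_le)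
  have h := supportDim_localized_eq hω p ⟨r, hr.1.1⟩ A (mem_support_self _) hrp fun q _ _ =>
    (hmin r hr).le.trans (hlow q)
  rw [hmin r hr] at h
  exact ⟨h, hlow p⟩

theorem deg_ge_of_hasSk (m : ℤ) (hmin : ∀ (q : Ideal A) (hq : q ∈ minimalPrimes A), deg hω ⟨q, hq.1.1⟩ = m)
    {k : ℕ} (h : LocCoh.HasSk k A A) (j : ℤ) (hj : j ≠ m) (p : PrimeSpectrum A)
    (hp : p ∈ Module.support A (Dual.HD A ω j)) : j + k ≤ deg hω p := by
  have hp' := (mem_support_HD_iff hω j p).1 hp
  obtain ⟨r, d, hdr, hr, hd, -, -, hwin⟩ := profile hω A p (mem_support_self p)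
  obtain ⟨hr', hge⟩ := supportDim_self_localized hω m hmin p
  rw [hr, WithBot.coe_inj, ENat.natCast_inj] at hr'
  have h1 := hwin j hp'
  have h3 := le_of_hasSk hω A h p (show d < r by omega) hr hd
  omega

theorem hasSk_of_deg_ge (m : ℤ) (hmin : ∀ (q : Ideal A) (hq : q ∈ minimalPrimes A), deg hω ⟨q, hq.1.1⟩ = m)
    {k : ℕ} (h : ∀ (j : ℤ), j ≠ m → ∀ p : PrimeSpectrum A, p ∈ Module.support A (Dual.HD A ω j) →
      j + k ≤ deg hω p) : LocCoh.HasSk k A A := by
  refine hasSk_of_profile hω A k fun p _ r d hdr hr _ hnd => ?_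
  obtain ⟨hr', hge⟩ := supportDim_self_localized hω m hmin p
  rw [hr, WithBot.coe_inj, ENat.natCast_inj] at hr'
  have := h (deg hω p - d) (by omega) p ((mem_support_HD_iff hω _ p).2 hnd)
  omega

/-- With `(S₂)` all minimal primes of a ring with connected spectrum have the same degree. -/
theorem deg_minimalPrimes_eq [ConnectedSpace (PrimeSpectrum A)] (h : LocCoh.HasSk 2 A A)
    (p q : PrimeSpectrum A) (hp : p.asIdeal ∈ minimalPrimes A) (hq : q.asIdeal ∈ minimalPrimes A) :
    deg hω p = deg hω q := by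
  have h2 : ∀ x : PrimeSpectrum A, ((2 : ℕ) : ℕ∞) ≤ x.asIdeal.height →
      (2 : ℕ∞) ≤ LocCoh.depth (Localization.AtPrime x.asIdeal) (Localization.AtPrime x.asIdeal) := fun x hx => by
    have h1 := h x.asIdeal
    rw [(HenselDesc.localized_self x.asIdeal).1, (HenselDesc.localized_self x.asIdeal).2,
      IsLocalization.AtPrime.ringKrullDim_eq_height x.asIdeal (Localization.AtPrime x.asIdeal),
      min_eq_left (show ((2 : ℕ) : WithBot ℕ∞) ≤ (x.asIdeal.height : WithBot ℕ∞) from WithBot.coe_le_coe.2 hx)] at h1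
    exact WithBot.coe_le_coe.1 h1
  obtain ⟨l, hl1, hl2, hlmin, hchain⟩ := Groth.Agent.S2933.result A 2 one_le_two h2 p q hp hq
  have step : ∀ a b : PrimeSpectrum A, a.asIdeal ∈ minimalPrimes A → b.asIdeal ∈ minimalPrimes A →
      (∃ r : PrimeSpectrum A, a ≤ r ∧ b ≤ r ∧ r.asIdeal.height ≤ (2 - 1 : ℕ)) → deg hω a = deg hω b := by
    rintro a b ha hb ⟨r, har, hbr, hr⟩
    have hone : ∀ c : PrimeSpectrum A, c.asIdeal ∈ minimalPrimes A → c ≤ r →
        (c = r ∧ r.asIdeal ∈ minimalPrimes A) ∨ deg hω r = deg hω c + 1 := by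
      intro c hc hcr
      rcases hcr.eq_or_lt with heq | hlt
      · exact Or.inl ⟨heq, heq ▸ hc⟩
      · obtain ⟨s, hs, hs', hlen⟩ := exists_series_to hω c r hcr
        have h3 := deg_strictMono hω hlt
        have h4 : (s.length : ℕ∞) ≤ (1 : ℕ) := by
          refine le_trans ?_ hr
          rw [show r.asIdeal.height = Order.height r from PrimeSpectrum.height_eq_orderHeight r]
          exact Order.length_le_height (le_of_eq hs')
        have := ENat.natCast_le_natCast.1 h4
        exact Or.inr (by omega)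
    have heq : ∀ c : PrimeSpectrum A, c.asIdeal ∈ minimalPrimes A → c ≤ r → r.asIdeal ∈ minimalPrimes A → c = r :=
      fun c hc hcr hrm => le_antisymm hcr (hrm.2 hc.1 hcr)
    rcases hone a ha har with ⟨rfl, hm⟩ | h5
    · rw [heq b hb hbr hm]
    · rcases hone b hb hbr with ⟨rfl, hm⟩ | h6
      · rw [heq a ha har hm]
      · omega
  have key : ∀ (l : List (PrimeSpectrum A)) (x : PrimeSpectrum A), (∀ y ∈ x :: l, y.asIdeal ∈ minimalPrimes A) →
      List.IsChain (fun a b => ∃ r : PrimeSpectrum A, a ≤ r ∧ b ≤ r ∧ r.asIdeal.height ≤ (2 - 1 : ℕ)) (x :: l) →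
      ∀ y, (x :: l).getLast? = some y → deg hω x = deg hω y := by
    intro l
    induction l with
    | nil => intro x _ _ y hy; simp only [List.getLast?_singleton, Option.some.injEq] at hy; rw [hy]
    | cons z l ih =>
      intro x hm hc y hy
      rw [List.getLast?_cons_cons] at hy
      rw [List.isChain_cons_cons] at hc
      exact (step x z (hm x (by simp)) (hm z (by simp)) hc.1).trans
        (ih z (fun y hy => hm y (List.mem_cons_of_mem _ hy)) hc.2 y hy)
  cases l with
  | nil => simp at hl1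
  | cons x l =>
    simp only [List.head?_cons, Option.some.injEq] at hl1
    subst hl1
    exact key l x hlmin hchain q hl2

section Local

variable [IsLocalRing A]

/-- The degree of the minimal primes of a normalized dualizing complex under `(S₂)`. -/
theorem deg_minimalPrimes_eq_neg_dim (hn : Dual.IsNormalized A ω) (n : ℕ) (hd : ringKrullDim A = n)
    (h : LocCoh.HasSk 2 A A) (q : Ideal A) (hq : q ∈ minimalPrimes A) :
    deg hω ⟨q, hq.1.1⟩ = -(n : ℤ) := by
  obtain ⟨l, hl⟩ : ∃ l : LTSeries (PrimeSpectrum A), l.length = n := by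
    have : Order.krullDim (PrimeSpectrum A) = n := hd
    exact Order.le_krullDim_iff.1 this.ge
  haveI : ConnectedSpace (PrimeSpectrum A) :=
    { toNonempty := ⟨closedPt A⟩
      isPreconnected_univ := fun u v hu hv hcov hu' hv' => by
        have hcl : ∀ (w : Set (PrimeSpectrum A)), IsOpen w → closedPt A ∈ w → w = Set.univ := fun w hw hc =>
          Set.eq_univ_of_forall fun x => ((PrimeSpectrum.le_iff_specializes x (closedPt A)).1 (le_closedPt x)).mem_open hw hc
        obtain ⟨x, -, hx⟩ := hu'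
        obtain ⟨y, -, hy⟩ := hv'
        rcases hcov (Set.mem_univ (closedPt A)) with h | h
        · exact ⟨y, trivial, hcl u hu h ▸ trivial, hy⟩
        · exact ⟨x, trivial, hx, hcl v hv h ▸ trivial⟩ }
  have h1 := length_le_deg_sub hω l
  have h2 : deg hω l.last ≤ 0 := by
    rw [← deg_closedPt_of_normalized hω hn]
    exact (deg_strictMono hω).monotone (le_closedPt _)
  obtain ⟨r, hr, hrl⟩ := Ideal.exists_minimalPrimes_le (show (⊥ : Ideal A) ≤ l.head.asIdeal from bot_le)
  have h3 := (deg_strictMono hω).monotone (show (⟨r, hr.1.1⟩ : PrimeSpectrum A) ≤ l.head from hrl)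
  have h4 := deg_minimalPrimes_eq hω h ⟨q, hq.1.1⟩ ⟨r, hr.1.1⟩ hq hr
  obtain ⟨e, he⟩ : ∃ e : ℕ, ringKrullDim (A ⧸ q) = e := ⟨_, ringKrullDim_quotient_eq hω ⟨q, hq.1.1⟩⟩
  have h5 := deg_eq_neg_dim hω hn ⟨q, hq.1.1⟩ e he
  have h6 : e ≤ n := by
    have := ringKrullDim_quotient_le (R := A) q
    rw [he, hd] at this
    exact_mod_cast this
  omega

end Local

end DualSkLib
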