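import Groth.Agent.DualSkLib.Basic
import Groth.Agent.DualCxLib.FinLenLC

/-! # Generalized Cohen–Macaulay modules over quotients of Gorenstein rings -/

set_option autoImplicit false
set_option linter.style.haveILetI false

universe u

open CategoryTheory IsLocalRing
open Groth.Agent Groth.Agent.DualCxLib

attribute [local instance] HasDerivedCategory.standard

noncomputable section

namespace DualSkLib

/-- Finite length of the local cohomology below a degree, over a quotient of a Gorenstein ring. -/
theorem finiteLength_below_iff {S A : Type u} [CommRing S] [IsLocalRing S] [IsNoetherianRing S]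
    [LocCoh.IsGorensteinLocalRing S] [CommRing A] [IsLocalRing A]
    [IsNoetherianRing A] [Algebra S A] (hs : Function.Surjective (algebraMap S A))
    (M : Type u) [AddCommGroup M] [Module A M] [Module.Finite A M] (n : ℕ) :
    (∀ i : ℕ, i ≤ n → IsFiniteLength A (LocCoh.H (maximalIdeal A) i M)) ↔
      ∀ p : PrimeSpectrum A, p.asIdeal ≠ maximalIdeal A → ∀ e : ℕ, ringKrullDim (A ⧸ p.asIdeal) = e →
        (n : ℕ∞) < LocCoh.depth (Localization.AtPrime p.asIdeal) (LocalizedModule p.asIdeal.primeCompl M) + e := by
  obtain ⟨ω, hω, hnorm⟩ := exists_normalized_of_gorenstein (S := S)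
  letI : Module S M := Module.compHom M (algebraMap S A)
  haveI : IsScalarTower S A M := IsScalarTower.of_algebraMap_smul fun _ _ => rfl
  haveI : Module.Finite S A := Module.Finite.of_surjective (Algebra.linearMap S A) hs
  haveI : Module.Finite S M := Module.Finite.trans A M
  obtain ⟨E, _, _, f, hf⟩ := InjHullLib.exists_injectiveHull (R := A) (ResidueField A)
  have key : ∀ i : ℕ, IsFiniteLength A (LocCoh.H (maximalIdeal A) i M) ↔ ∀ p : PrimeSpectrum A,
      (⟨p.asIdeal.comap (algebraMap S A), inferInstance⟩ : PrimeSpectrum S) ∈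
        Module.support S (Dual.inD S M ⟶ ω⟦(-(i : ℤ))⟧) → p.asIdeal = maximalIdeal A := by
    intro i
    obtain ⟨W, _, _, _, _, _, ⟨e⟩, ⟨d⟩⟩ := exists_dual_model (S := S) (R := A) hs hω hnorm hf M i
    haveI : Module.Finite S W := Module.Finite.trans A W
    rw [← Module.length_ne_top_iff, ← d.length_eq, Module.length_ne_top_iff, isFiniteLength_dual_iff hf W]
    refine forall_congr' fun p => imp_congr_left ?_
    rw [← LinearEquiv.support_eq e, Module.mem_support_iff_of_finite, Module.mem_support_iff_of_finite,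
      annihilator_restrict (S := S) (R := A)]
    exact ⟨fun h => Ideal.comap_mono h, fun h x hx => by
      obtain ⟨s, rfl⟩ := hs x
      exact h hx⟩
  constructor
  · intro h p hp e he
    refine not_le.1 fun hle => ?_
    have hle' : ((LocCoh.depth (Localization.AtPrime p.asIdeal) (LocalizedModule p.asIdeal.primeCompl M) : ℕ∞) :
        WithBot ℕ∞) + ringKrullDim (A ⧸ p.asIdeal) ≤ (n : WithBot ℕ∞) := by
      rw [he]
      exact WithBot.coe_le_coe.2 hle
    rw [← depth_localized_restrict (S := S) hs p M, ← ringKrullDim_quotient_comap (S := S) hs] at hle'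
    obtain ⟨j, hj, hsupp⟩ := (support_ext_iff_depth_add_dim hω hnorm M n
      ⟨p.asIdeal.comap (algebraMap S A), inferInstance⟩).2 hle'
    exact hp ((key j).1 (h j hj) p hsupp)
  · intro h i hi
    rw [key i]
    intro p hsupp
    by_contra hp
    obtain ⟨e, he⟩ : ∃ e : ℕ, ringKrullDim (A ⧸ p.asIdeal) = e := by
      rw [← ringKrullDim_quotient_comap (S := S) hs]
      exact ⟨_, ringKrullDim_quotient_eq hω ⟨p.asIdeal.comap (algebraMap S A), inferInstance⟩⟩
    have hle := (support_ext_iff_depth_add_dim hω hnorm M n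
      ⟨p.asIdeal.comap (algebraMap S A), inferInstance⟩).1 ⟨i, hi, hsupp⟩
    rw [depth_localized_restrict (S := S) hs p M, ringKrullDim_quotient_comap (S := S) hs, he] at hle
    exact absurd (WithBot.coe_le_coe.1 hle) (not_le.2 (h p hp e he))

/-- The points of the support of a localisation. -/
def supportLocalizedIso {A : Type u} [CommRing A] (p : PrimeSpectrum A) (M : Type u) [AddCommGroup M] [Module A M] :
    Module.support (Localization.AtPrime p.asIdeal) (LocalizedModule p.asIdeal.primeCompl M) ≃o
      {q : PrimeSpectrum A | q ∈ Module.support A M ∧ q ≤ p} :=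
  let c := IsLocalization.AtPrime.primeSpectrumOrderIso (Localization.AtPrime p.asIdeal) p.asIdeal
  { toFun := fun x => ⟨(c x.1).1, (DepthTwoLib.mem_support_localized_iff p.asIdeal M x.1).1 x.2, (c x.1).2⟩
    invFun := fun q => ⟨c.symm ⟨q.1, q.2.2⟩, by
      refine (DepthTwoLib.mem_support_localized_iff p.asIdeal M _).2 ?_
      have h : PrimeSpectrum.comap (algebraMap A (Localization.AtPrime p.asIdeal)) (c.symm ⟨q.1, q.2.2⟩) =
          (c (c.symm ⟨q.1, q.2.2⟩)).1 := PrimeSpectrum.ext rfl
      rw [h, OrderIso.apply_symm_apply]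
      exact q.2.1⟩
    left_inv := fun x => Subtype.ext (c.symm_apply_apply x.1)
    right_inv := fun q => Subtype.ext (by simp only [OrderIso.apply_symm_apply])
    map_rel_iff' := fun {x y} => c.le_iff_le }

theorem supportDim_localized_restrict {S A : Type u} [CommRing S] [CommRing A] [Algebra S A]
    (hs : Function.Surjective (algebraMap S A)) (p : PrimeSpectrum A) (M : Type u) [AddCommGroup M] [Module A M]
    [Module.Finite A M] [Module S M] [IsScalarTower S A M] [Module.Finite S M] :
    Module.supportDim (Localization.AtPrime (p.asIdeal.comap (algebraMap S A)))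
        (LocalizedModule (p.asIdeal.comap (algebraMap S A)).primeCompl M) =
      Module.supportDim (Localization.AtPrime p.asIdeal) (LocalizedModule p.asIdeal.primeCompl M) := by
  let p' : PrimeSpectrum S := PrimeSpectrum.comap (algebraMap S A) p
  have e1 := Order.krullDim_eq_of_orderIso (supportLocalizedIso p' M)
  have e2 := Order.krullDim_eq_of_orderIso (supportLocalizedIso p M)
  refine e1.trans (Eq.trans ?_ e2.symm)
  have hmem : ∀ q : PrimeSpectrum A, PrimeSpectrum.comap (algebraMap S A) q ∈ Module.support S M ↔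
      q ∈ Module.support A M := fun q => by
    rw [Module.mem_support_iff_of_finite, Module.mem_support_iff_of_finite, annihilator_restrict (R := A)]
    exact ⟨fun h x hx => by obtain ⟨s, rfl⟩ := hs x; exact h hx, fun h => Ideal.comap_mono h⟩
  let f : {q : PrimeSpectrum A | q ∈ Module.support A M ∧ q ≤ p} → {q : PrimeSpectrum S | q ∈ Module.support S M ∧ q ≤ p'} :=
    fun q => ⟨PrimeSpectrum.comap (algebraMap S A) q.1, (hmem q.1).2 q.2.1, Ideal.comap_mono q.2.2⟩
  have hle : ∀ x y : {q : PrimeSpectrum A | q ∈ Module.support A M ∧ q ≤ p}, f x ≤ f y ↔ x ≤ y := fun x y =>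
    ⟨fun h z hz => by obtain ⟨s, rfl⟩ := hs z; exact h hz, fun h => Ideal.comap_mono h⟩
  have hf : Function.Surjective f := fun q => by
    have hker : RingHom.ker (algebraMap S A) ≤ q.1.asIdeal := by
      refine le_trans ?_ (Module.mem_support_iff_of_finite.1 q.2.1)
      rw [annihilator_restrict (R := A)]
      exact Ideal.comap_mono bot_le
    haveI := Ideal.map_isPrime_of_surjective hs hker
    have hcomap : (q.1.asIdeal.map (algebraMap S A)).comap (algebraMap S A) = q.1.asIdeal := by
      rw [Ideal.comap_map_of_surjective _ hs, sup_eq_left]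
      exact hker
    let q' : PrimeSpectrum A := ⟨q.1.asIdeal.map (algebraMap S A), inferInstance⟩
    have hq' : PrimeSpectrum.comap (algebraMap S A) q' = q.1 := PrimeSpectrum.ext hcomap
    refine ⟨⟨q', (hmem q').1 (hq'.symm ▸ q.2.1), ?_⟩, Subtype.ext hq'⟩
    exact Ideal.map_le_iff_le_comap.2 q.2.2
  exact (Order.krullDim_eq_of_orderIso
    { Equiv.ofBijective f ⟨fun x y h => le_antisymm ((hle x y).1 h.le) ((hle y x).1 h.ge), hf⟩ with
      map_rel_iff' := fun {x y} => hle x y }).symm

/-- Generalized Cohen–Macaulay means equidimensional and Cohen–Macaulay on the punctured spectrum. -/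
theorem genCM_iff {S A : Type u} [CommRing S] [LocCoh.IsGorensteinLocalRing S] [CommRing A] [IsLocalRing A]
    [IsNoetherianRing A] (g : S →+* A) (hg : Function.Surjective g)
    (M : Type u) [AddCommGroup M] [Module A M] [Module.Finite A M] (n : ℕ) (hn : Module.supportDim A M = n) :
    (∀ i : ℕ, i < n → IsFiniteLength A (LocCoh.H (maximalIdeal A) i M)) ↔
      ((∀ p ∈ (Module.annihilator A M).minimalPrimes, ringKrullDim (A ⧸ p) = n) ∧
        ∀ (p : Ideal A) [p.IsPrime], p ≠ maximalIdeal A → Module.annihilator A M ≤ p →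
          LocCoh.IsCohenMacaulayModule (Localization.AtPrime p) (LocalizedModule p.primeCompl M)) := by
  haveI : Nontrivial M := (Module.supportDim_ne_bot_iff_nontrivial A M).1 (by rw [hn]; simp)
  obtain ⟨ω, hω, hnorm⟩ := exists_normalized_of_gorenstein (S := S)
  letI := g.toAlgebra
  have hs : Function.Surjective (algebraMap S A) := hg
  letI : Module S M := Module.compHom M (algebraMap S A)
  haveI : IsScalarTower S A M := IsScalarTower.of_algebraMap_smul fun _ _ => rfl
  haveI : Module.Finite S A := Module.Finite.of_surjective (Algebra.linearMap S A) hs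
  haveI : Module.Finite S M := Module.Finite.trans A M
  have hnS : Module.supportDim S M = n := (supportDim_restrict (R := A) hs).trans hn
  have hann := annihilator_restrict (S := S) (R := A) (N := M)
  -- the invariants at a point of the support
  have hpt : ∀ p : PrimeSpectrum A, Module.annihilator A M ≤ p.asIdeal → ∃ r d e : ℕ, d ≤ r ∧ r + e ≤ n ∧
      Module.supportDim (Localization.AtPrime p.asIdeal) (LocalizedModule p.asIdeal.primeCompl M) = ((r : ℕ∞) : WithBot ℕ∞) ∧
      LocCoh.depth (Localization.AtPrime p.asIdeal) (LocalizedModule p.asIdeal.primeCompl M) = (d : ℕ∞) ∧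
      ringKrullDim (A ⧸ p.asIdeal) = e ∧
      ((∀ q ∈ (Module.annihilator A M).minimalPrimes, ringKrullDim (A ⧸ q) = n) → r + e = n) := by
    intro p hp
    let p' : PrimeSpectrum S := PrimeSpectrum.comap (algebraMap S A) p
    have hp' : p' ∈ Module.support S M := Module.mem_support_iff_of_finite.2 (hann ▸ Ideal.comap_mono hp)
    obtain ⟨r, d, hdr, hr, hd, hnr, -, -⟩ := profile hω M p' hp'
    obtain ⟨e, he⟩ : ∃ e : ℕ, ringKrullDim (S ⧸ p'.asIdeal) = e := ⟨_, ringKrullDim_quotient_eq hω p'⟩
    have hde := deg_eq_neg_dim hω hnorm p' e he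
    have hlow : -(n : ℤ) ≤ deg hω p' - r := by
      by_contra hlt
      refine hnr (van_of_lt hω p' _ fun q hq _ => ?_)
      have := deg_ge_of_supportDim_le hω hnorm M n hnS.le q hq
      omega
    refine ⟨r, d, e, hdr, by omega, ?_, ?_, ?_, fun hM => ?_⟩
    · exact (supportDim_localized_restrict hs p M).symm.trans hr
    · exact (depth_localized_restrict hs p M).symm.trans hd
    · exact (ringKrullDim_quotient_comap hs p.asIdeal).symm.trans he
    · have hMS : EGA4.IsEquidimModule S M := by
        intro q hq
        rw [hann, Ideal.comap_minimalPrimes_eq_of_surjective hs] at hq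
        obtain ⟨q₀, hq₀, rfl⟩ := hq
        rw [ringKrullDim_quotient_comap hs, hM q₀ hq₀, hnS]
      obtain ⟨h1, h2⟩ := supportDim_localized_of_equidim hω M hnorm hMS n hnS p' hp'
      rw [hr, WithBot.coe_inj, ENat.natCast_inj] at h1
      omega
  rcases Nat.eq_zero_or_pos n with rfl | hpos
  · refine iff_of_true (fun i hi => absurd hi (Nat.not_lt_zero i)) ⟨fun p hp => ?_, fun p _ hpm hle => ?_⟩
    · obtain ⟨r, d, e, -, h1, -, -, he, -⟩ := hpt ⟨p, hp.isPrime⟩ hp.le
      rw [he, show e = 0 by omega]
    · obtain ⟨r, d, e, -, h1, -, -, he, -⟩ := hpt ⟨p, ‹_›⟩ hle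
      exfalso
      refine hpm ?_
      haveI : Ring.KrullDimLE 0 (A ⧸ p) := Ring.krullDimLE_iff.2 (le_of_eq (by rw [he, show e = 0 by omega]))
      have h2 : (⊥ : Ideal (A ⧸ p)).IsMaximal :=
        haveI : (⊥ : Ideal (A ⧸ p)).IsPrime := Ideal.isPrime_bot
        Ideal.IsPrime.isMaximal' inferInstance
      exact IsLocalRing.eq_maximalIdeal (Ideal.Quotient.maximal_of_isField _ (Ring.isField_iff_maximal_bot (R := A ⧸ p) |>.2 h2))
  obtain ⟨k, rfl⟩ : ∃ k, n = k + 1 := ⟨n - 1, by omega⟩
  refine Iff.trans (by simp only [Nat.lt_succ_iff]) ((finiteLength_below_iff hs M k).trans ⟨fun h => ?_, fun h => ?_⟩)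
  · have key : ∀ p : PrimeSpectrum A, Module.annihilator A M ≤ p.asIdeal → p.asIdeal ≠ maximalIdeal A →
        ∃ r d e : ℕ, d = r ∧ r + e = k + 1 ∧
          Module.supportDim (Localization.AtPrime p.asIdeal) (LocalizedModule p.asIdeal.primeCompl M) = ((r : ℕ∞) : WithBot ℕ∞) ∧
          LocCoh.depth (Localization.AtPrime p.asIdeal) (LocalizedModule p.asIdeal.primeCompl M) = (d : ℕ∞) ∧
          ringKrullDim (A ⧸ p.asIdeal) = e := by
      intro p hp hpm
      obtain ⟨r, d, e, hdr, hre, hr, hd, he, -⟩ := hpt p hp
      have h1 := h p hpm e he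
      rw [hd, ← Nat.cast_add, ENat.natCast_lt_natCast] at h1
      exact ⟨r, d, e, by omega, by omega, hr, hd, he⟩
    refine ⟨fun q hq => ?_, fun p _ hpm hle => ?_⟩
    · haveI := hq.isPrime
      let q₀ : PrimeSpectrum A := ⟨q, hq.isPrime⟩
      have hr0 : Module.supportDim (Localization.AtPrime q₀.asIdeal) (LocalizedModule q₀.asIdeal.primeCompl M) = 0 := by
        haveI : Subsingleton {x : PrimeSpectrum A | x ∈ Module.support A M ∧ x ≤ q₀} := ⟨fun x y => by
          have h' : ∀ z : {x : PrimeSpectrum A | x ∈ Module.support A M ∧ x ≤ q₀}, z.1 = q₀ := fun z =>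
            le_antisymm z.2.2 (hq.2 ⟨z.1.2, Module.mem_support_iff_of_finite.1 z.2.1⟩ z.2.2)
          exact Subtype.ext ((h' x).trans (h' y).symm)⟩
        haveI : Nonempty {x : PrimeSpectrum A | x ∈ Module.support A M ∧ x ≤ q₀} :=
          ⟨⟨q₀, Module.mem_support_iff_of_finite.2 hq.le, le_rfl⟩⟩
        exact (Order.krullDim_eq_of_orderIso (supportLocalizedIso q₀ M)).trans Order.krullDim_eq_zero
      by_cases hqm : q = maximalIdeal A
      · -- then `M` has finite length
        exfalso
        have h' : ∀ z : PrimeSpectrum A, z ∈ Module.support A M → z = q₀ := fun z hz => by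
          have hz' : z ≤ q₀ := show z.asIdeal ≤ q from hqm ▸ le_maximalIdeal z.2.ne_top
          exact le_antisymm hz' (hq.2 ⟨z.2, Module.mem_support_iff_of_finite.1 hz⟩ hz')
        haveI : Subsingleton (Module.support A M) := ⟨fun x y => Subtype.ext ((h' x x.2).trans (h' y y.2).symm)⟩
        haveI : Nonempty (Module.support A M) := ⟨⟨q₀, Module.mem_support_iff_of_finite.2 hq.le⟩⟩
        have h0 : Module.supportDim A M = 0 := Order.krullDim_eq_zero
        rw [hn] at h0
        exact absurd h0 (by exact_mod_cast Nat.succ_ne_zero k)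
      · obtain ⟨r, d, e, -, hre, hr, -, he⟩ := key q₀ hq.le hqm
        rw [hr0] at hr
        have : r = 0 := by exact_mod_cast hr.symm
        subst this
        rw [zero_add] at hre
        rw [← hre]; exact he
    · obtain ⟨r, d, e, hdr, -, hr, hd, -⟩ := key ⟨p, ‹_›⟩ hle hpm
      show _ = _
      rw [hr, hd, hdr]
  · intro p hpm e he
    by_cases hp : Module.annihilator A M ≤ p.asIdeal
    · obtain ⟨r, d, e', -, -, hr, hd, he', heq⟩ := hpt p hp
      have h1 := heq h.1
      have hcm := h.2 p.asIdeal hpm hp
      unfold LocCoh.IsCohenMacaulayModule at hcm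
      rw [hr, hd, WithBot.coe_inj, ENat.natCast_inj] at hcm
      rw [he] at he'
      have : e = e' := by exact_mod_cast he'
      rw [hd, ← Nat.cast_add, ENat.natCast_lt_natCast]
      omega
    · haveI : Subsingleton (LocalizedModule p.asIdeal.primeCompl M) :=
        Module.notMem_support_iff.1 fun hmem => hp (Module.mem_support_iff_of_finite.1 hmem)
      have htop : LocCoh.depth (Localization.AtPrime p.asIdeal) (LocalizedModule p.asIdeal.primeCompl M) = ⊤ :=
        ENat.eq_top_iff_forall_ge.2 fun m => (CommAlgDim.le_depth_iff m).2 (CommAlgDim.hasSeqIn_of_subsingleton _ m)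
      rw [htop, top_add]
      exact ENat.natCast_lt_top k

end DualSkLib
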