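import Groth.Agent.DualSkLib.EndK
import Groth.Agent.DualSkLib.Dual
import Mathlib.LinearAlgebra.TensorPower.Basic
import Mathlib.LinearAlgebra.PiTensorProduct.Finite

/-! # The dualizing module: equidimensionality, `(S₂)`, reflexivity -/

set_option autoImplicit false
set_option linter.style.haveILetI false
set_option linter.unusedSectionVars false

universe u

open CategoryTheory CategoryTheory.Limits
open Groth.Agent
open Groth.Agent.DualCxLib

attribute [local instance] HasDerivedCategory.standard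

noncomputable section

namespace DualSkLib

theorem isReflexive_of_free (R M : Type u) [CommRing R] [AddCommGroup M] [Module R M] (h : Module.Free R M)
    (h' : Module.Finite R M) : Module.IsReflexive R M := by
  haveI := h
  haveI := h'
  infer_instance

variable {A : Type u} [CommRing A] [IsNoetherianRing A] {ω : Dual.D A} (hω : Dual.IsDualizing A ω)
include hω

theorem notMem_of_lt (m : ℤ) (hlow : ∀ q, m ≤ deg hω q) (i : ℤ) (hi : i < m) (p : PrimeSpectrum A) :
    p ∉ Module.support A (Dual.HD A ω i) := fun h =>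
  (mem_support_HD_iff hω i p).1 h (van_of_lt hω p i fun q _ _ => hi.trans_le (hlow q))

theorem notMem_of_gt (M : ℤ) (hhigh : ∀ q, deg hω q ≤ M) (i : ℤ) (hi : M < i) (p : PrimeSpectrum A) :
    p ∉ Module.support A (Dual.HD A ω i) := fun h =>
  (mem_support_HD_iff hω i p).1 h (van_of_gt hω p i ((hhigh p).trans_lt hi))

theorem hasSk_mono {k l : ℕ} (hkl : k ≤ l) (h : LocCoh.HasSk l A A) : LocCoh.HasSk k A A := fun p _ =>
  le_trans (min_le_min_right _ (Nat.cast_le.2 hkl)) (h p)

/-- Depth along an ideal of large height. -/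
theorem le_idealDepth_of_height {k : ℕ} (hA : LocCoh.HasSk k A A) (J : Ideal A) (hJ : (k : ℕ∞) ≤ J.height) :
    (k : ℕ∞) ≤ LocCoh.idealDepth J A := by
  rw [CommAlgDim.le_idealDepth_iff, CommAlgDim.hasSeqIn_iff_forall_localization]
  intro p _ hJp
  have h := hA p
  rw [(HenselDesc.localized_self p).1, IsLocalization.AtPrime.ringKrullDim_eq_height p (Localization.AtPrime p),
    min_eq_left (show ((k : ℕ) : WithBot ℕ∞) ≤ (p.height : WithBot ℕ∞) from
      WithBot.coe_le_coe.2 (hJ.trans (Ideal.height_mono hJp)))] at h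
  exact WithBot.coe_le_coe.1 h

section Local

variable [IsLocalRing A]

theorem toEnd_dualizingModule (hn : Dual.IsNormalized A ω) (n : ℕ) (hd : ringKrullDim A = n) :
    (LocCoh.HasSk 2 A A →
      Function.Bijective (fun r : A => r • (LinearMap.id : Dual.HD A ω (-(n : ℤ)) →ₗ[A] Dual.HD A ω (-(n : ℤ))))) ∧
    (LocCoh.HasSk 3 A A →
      Subsingleton (Dual.inD A (Dual.HD A ω (-(n : ℤ))) ⟶ (Dual.inD A (Dual.HD A ω (-(n : ℤ))))⟦(1 : ℤ)⟧)) := by
  have hup : ∀ q, deg hω q ≤ 0 := fun q => by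
    rw [← deg_closedPt_of_normalized hω hn]
    exact (deg_strictMono hω).monotone (le_closedPt q)
  have key : ∀ h2 : LocCoh.HasSk 2 A A, _ ∧ _ := fun h2 => by
    have hmin := deg_minimalPrimes_eq_neg_dim hω hn n hd h2
    have hlow := le_deg hω (-(n : ℤ)) fun q hq => (hmin q hq).ge
    exact endK hω (-(n : ℤ)) (notMem_of_lt hω _ hlow) 0 (notMem_of_gt hω 0 hup) fun i hi p hp => by
      have := deg_ge_of_hasSk hω _ hmin h2 i (ne_of_gt hi) p hp
      omega
  refine ⟨fun h2 => (key h2).1, fun h3 => (key (hasSk_mono hω (by norm_num) h3)).2 fun i hi p hp => ?_⟩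
  have := deg_ge_of_hasSk hω _ (deg_minimalPrimes_eq_neg_dim hω hn n hd (hasSk_mono hω (by norm_num) h3)) h3 i
    (ne_of_gt hi) p hp
  omega

variable (n : ℕ) (hd : ringKrullDim A = n) (J : Ideal A) (hJ : 1 ≤ J.height)
  (hoff : ∀ p : PrimeSpectrum A, ¬ J ≤ p.asIdeal → ∀ i : ℤ, i ≠ 0 → p ∉ Module.support A (Dual.HD A ω i))
include hd hJ hoff

theorem ordinary :
    (EGA4.IsEquidim A ∧ Dual.IsNormalized A (ω⟦(n : ℤ)⟧) ∧ LocCoh.HasSk 2 A (Dual.HD A ω 0)) ∧
    (2 ≤ J.height → 2 ≤ LocCoh.idealDepth J (Dual.HD A ω 0)) := by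
  have hmin : ∀ (q : Ideal A) (hq : q ∈ minimalPrimes A), deg hω ⟨q, hq.1.1⟩ = 0 := fun q hq => by
    haveI : q.IsPrime := hq.1.1
    have hnJ : ¬ J ≤ q := fun h => by
      have h1 := hJ.trans (Ideal.height_mono h)
      rw [Ideal.height_eq_zero_iff.2 (show q ∈ minimalPrimes A from hq)] at h1
      exact absurd h1 (by simp)
    by_contra hne
    refine hoff ⟨q, hq.1.1⟩ hnJ _ hne ((mem_support_HD_iff hω _ _).2 ?_)
    exact (not_van_iff_of_minimal hω (⟨q, hq.1.1⟩ : PrimeSpectrum A) (mem_support_self _)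
      (fun r _ hr => PrimeSpectrum.ext (le_antisymm hr (hq.2 ⟨r.2, bot_le⟩ hr))) _).2 rfl
  have hlow := le_deg hω 0 fun q hq => (hmin q hq).ge
  obtain ⟨l, hl⟩ : ∃ l : LTSeries (PrimeSpectrum A), l.length = n := by
    have : Order.krullDim (PrimeSpectrum A) = n := hd
    exact Order.le_krullDim_iff.1 this.ge
  have h1 := length_le_deg_sub hω l
  have h2 : deg hω l.last ≤ deg hω (closedPt A) := (deg_strictMono hω).monotone (le_closedPt _)
  have h3 := hlow l.head
  have hquot : ∀ (q : Ideal A) (hq : q ∈ minimalPrimes A),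
      ringKrullDim (A ⧸ q) = (((deg hω (closedPt A)).toNat : ℕ∞) : WithBot ℕ∞) := fun q hq => by
    have := ringKrullDim_quotient_eq hω ⟨q, hq.1.1⟩
    rwa [hmin q hq, sub_zero] at this
  obtain ⟨q₁, hq₁, -⟩ := Ideal.exists_minimalPrimes_le (show (⊥ : Ideal A) ≤ (closedPt A).asIdeal from bot_le)
  have h4 : (deg hω (closedPt A)).toNat ≤ n := by
    have := ringKrullDim_quotient_le (R := A) q₁
    rw [hquot q₁ hq₁, hd] at this
    exact_mod_cast this
  have hδ : deg hω (closedPt A) = n := by omega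
  refine ⟨⟨fun q hq => ?_, fun i hi => ?_, hasSk_two_lowest hω 0 hlow⟩, fun h2J => ?_⟩
  · rw [hquot q hq, hd, hδ, Int.toNat_natCast]; rfl
  · have hv := (isDeg_deg hω (closedPt A)).1 ((n : ℤ) + i) (by omega)
    rw [van_closedPt_iff] at hv
    exact (postcompL _ (shift₂ ω (n : ℤ) i ((n : ℤ) + i) rfl)).toEquiv.subsingleton_congr.2 hv
  · haveI := hω.finite_cohomology 0
    rw [show (2 : ℕ∞) = ((2 : ℕ) : ℕ∞) from rfl, CommAlgDim.le_idealDepth_iff]
    refine CommAlgDim.hasSeqIn_of_forall_localization 2 _ fun p _ hJp => ?_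
    refine ((hasSeqIn_lowest hω 0 hlow ⟨p, ‹_›⟩).2 ?_).localization le_rfl
    have h5 := supportDim_self_localized hω 0 hmin ⟨p, ‹_›⟩
    rw [(HenselDesc.localized_self p).1, IsLocalization.AtPrime.ringKrullDim_eq_height p (Localization.AtPrime p)] at h5
    have h6 : (2 : ℕ∞) ≤ ((deg hω ⟨p, ‹_›⟩ - 0).toNat : ℕ∞) :=
      (h2J.trans (Ideal.height_mono hJp)).trans_eq (WithBot.coe_inj.1 h5.1)
    have h7 : 2 ≤ (deg hω ⟨p, ‹_›⟩ - 0).toNat := by exact_mod_cast h6
    omega

omit hJ hoff in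
theorem dualizingSheaf (hJ2 : 2 ≤ J.height)
    (hoff' : ∀ p : PrimeSpectrum A, ¬ J ≤ p.asIdeal →
      (∀ i : ℤ, i ≠ 0 → p ∉ Module.support A (Dual.HD A ω i)) ∧
      Module.Free (Localization.AtPrime p.asIdeal) (LocalizedModule p.asIdeal.primeCompl (Dual.HD A ω 0)) ∧
      Module.finrank (Localization.AtPrime p.asIdeal) (LocalizedModule p.asIdeal.primeCompl (Dual.HD A ω 0)) = 1) :
    (LocCoh.HasSk 1 A A →
      (EGA4.IsEquidim A ∧ Dual.IsNormalized A (ω⟦(n : ℤ)⟧)) ∧
      Module.IsReflexive A (Dual.HD A ω 0) ∧ LocCoh.HasSk 2 A (Dual.HD A ω 0)) ∧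
    (LocCoh.HasSk 2 A A → ∀ m : ℕ,
      LocCoh.HasSk 2 A (Module.Dual A (Module.Dual A (TensorPower A m (Dual.HD A ω 0)))) ∧
      2 ≤ LocCoh.idealDepth J (Module.Dual A (Module.Dual A (TensorPower A m (Dual.HD A ω 0))))) := by
  haveI := hω.finite_cohomology 0
  obtain ⟨⟨heq, hnorm, hS2⟩, hdep⟩ := ordinary hω n hd J (le_trans one_le_two hJ2) fun p hp => (hoff' p hp).1
  refine ⟨fun h1 => ⟨⟨heq, hnorm⟩, ?_, hS2⟩, fun h2 m => ?_⟩
  · refine DepthTwoLib.isReflexive_of_d2 _
      (DepthTwoLib.one_le_iff.1 (le_idealDepth_of_height hω (k := 1) h1 J (le_trans one_le_two hJ2)))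
      (DepthTwoLib.two_le_iff.1 (hdep hJ2)) fun p hp => ?_
    exact isReflexive_of_free _ _ (hoff' p hp).2.1
      (Module.Finite.of_isLocalizedModule p.asIdeal.primeCompl (LocalizedModule.mkLinearMap p.asIdeal.primeCompl _))
  · exact ⟨DepthTwoLib.hasSk_two_dual h2 _, DepthTwoLib.two_le_iff.2
      (DepthTwoLib.d2_dual (DepthTwoLib.two_le_iff.1 (le_idealDepth_of_height hω (k := 2) h2 J hJ2)) _)⟩

end Local

/-- `(S_k)` of an equidimensional algebra of finite type through its canonical dualizing complex. -/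
theorem hasSk_iff_supportDim_cohomology (hEq : EGA4.IsEquidim A) (n : ℕ) (hd : ringKrullDim A = n)
    (hnorm : ∀ (m : Ideal A) (_ : m.IsMaximal) (i : ℤ), i ≠ 0 → Subsingleton (Dual.inD A (A ⧸ m) ⟶ ω⟦i⟧)) :
    (∀ i : ℕ, n < i → Subsingleton (Dual.HD A ω (-(i : ℤ)))) ∧
    ∀ k' : ℕ, 1 ≤ k' →
      (LocCoh.HasSk k' A A ↔
        ∀ i : ℕ, i ≠ n →
          (i < k' → Subsingleton (Dual.HD A ω (-(i : ℤ)))) ∧
          (k' ≤ i → Module.supportDim A (Dual.HD A ω (-(i : ℤ))) ≤ ((i - k' : ℕ) : WithBot ℕ∞))) := by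
  have hmax : ∀ m : PrimeSpectrum A, m.asIdeal.IsMaximal → deg hω m = 0 := fun m hm => by
    by_contra hne
    exact (isDeg_deg hω m).2 (@van_of_subsingleton A _ m.asIdeal _ _ _ _ (hnorm m.asIdeal hm _ hne))
  have hup : ∀ q, deg hω q ≤ 0 := fun q => by
    obtain ⟨m, hm, hqm⟩ := Ideal.exists_le_maximal q.asIdeal q.2.ne_top
    rw [← hmax ⟨m, hm.isPrime⟩ hm]
    exact (deg_strictMono hω).monotone (show q ≤ ⟨m, hm.isPrime⟩ from hqm)
  have hquot : ∀ p : PrimeSpectrum A, ringKrullDim (A ⧸ p.asIdeal) = (((-deg hω p).toNat : ℕ∞) : WithBot ℕ∞) := fun p => by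
    rw [ringKrullDim_quotient]
    let S := PrimeSpectrum.zeroLocus (p.asIdeal : Set A)
    refine le_antisymm (iSup_le fun l => WithBot.coe_le_coe.2 (ENat.natCast_le_natCast.2 ?_)) ?_
    · let l' := l.map Subtype.val (fun _ _ h => h)
      have h1 := length_le_deg_sub hω l'
      have h2 : deg hω p ≤ deg hω l'.head := (deg_strictMono hω).monotone (show p ≤ l'.head from l.head.2)
      have h3 := hup l'.last
      change l'.length ≤ _
      omega
    · obtain ⟨l, m, hl, hm, hlen⟩ := exists_series hω p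
      rw [hmax m hm] at hlen
      let l' : LTSeries S := ⟨l.length, fun i => ⟨l.toFun i, by
        have := LTSeries.head_le l i
        rw [hl] at this
        exact this⟩, fun i => l.step i⟩
      refine le_trans ?_ (Order.LTSeries.length_le_krullDim l')
      refine WithBot.coe_le_coe.2 (ENat.natCast_le_natCast.2 ?_)
      change _ ≤ l.length
      omega
  have hmin : ∀ (q : Ideal A) (hq : q ∈ minimalPrimes A), deg hω ⟨q, hq.1.1⟩ = -(n : ℤ) := fun q hq => by
    have h1 := (hquot ⟨q, hq.1.1⟩).symm.trans ((hEq q hq).trans hd)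
    have h2 : (-deg hω ⟨q, hq.1.1⟩).toNat = n := by exact_mod_cast h1
    have := hup ⟨q, hq.1.1⟩
    omega
  have hlow := le_deg hω (-(n : ℤ)) fun q hq => (hmin q hq).ge
  refine ⟨fun i hi => cohomology_subsingleton hω _ (notMem_of_lt hω _ hlow _ (by omega)), fun k hk => ⟨fun h i hi => ?_, fun h => ?_⟩⟩
  · have key := deg_ge_of_hasSk hω _ hmin h (-(i : ℤ)) (by omega)
    refine ⟨fun hik => cohomology_subsingleton hω _ fun p hp => ?_, fun hki => iSup_le fun l => ?_⟩
    · have := key p hp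
      have := hup p
      omega
    · let S := PrimeSpectrum.zeroLocus ((l.head).1.asIdeal : Set A)
      let l' : LTSeries S := ⟨l.length, fun j => ⟨(l.toFun j).1, LTSeries.head_le l j⟩, fun j => l.step j⟩
      have h1 : (l.length : WithBot ℕ∞) ≤ (((-deg hω l.head.1).toNat : ℕ∞) : WithBot ℕ∞) := by
        rw [← hquot l.head.1, ringKrullDim_quotient]
        exact Order.LTSeries.length_le_krullDim l'
      have h2 := key _ l.head.2
      exact h1.trans (WithBot.coe_le_coe.2 (ENat.natCast_le_natCast.2 (by omega)))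
  · refine hasSk_of_deg_ge hω _ hmin fun j hj p hp => ?_
    have hj0 : j ≤ 0 := by
      by_contra hj0
      exact notMem_of_gt hω 0 hup j (not_le.1 hj0) p hp
    obtain ⟨i, rfl⟩ : ∃ i : ℕ, j = -(i : ℤ) := ⟨(-j).toNat, by omega⟩
    obtain ⟨hA, hB⟩ := h i (by omega)
    rcases lt_or_ge i k with hik | hki
    · haveI := hA hik
      rw [Module.support_eq_empty] at hp
      exact absurd hp (Set.notMem_empty p)
    · have h1 : ringKrullDim (A ⧸ p.asIdeal) ≤ Module.supportDim A (Dual.HD A ω (-(i : ℤ))) := by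
        rw [ringKrullDim_quotient]
        exact Order.krullDim_le_of_strictMono (fun q => ⟨q.1, Module.mem_support_mono q.2 hp⟩) fun _ _ hlt => hlt
      have h2 := h1.trans (hB hki)
      rw [hquot p] at h2
      have h3 : (-deg hω p).toNat ≤ i - k := ENat.natCast_le_natCast.1 (WithBot.coe_le_coe.1 h2)
      have := hup p
      omega

end DualSkLib
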